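import Mathlib

/-!
Elementary abelian subgroups of an extension of an elementary abelian 2-group of order `2 ^ 11` by a
group of order `2 ^ 7`, given by a linear action: their order is at most `2 ^ 11` when no involution and
no commuting pair of involutions of the quotient fixes too much.
-/

set_option autoImplicit false
set_option maxRecDepth 100000

namespace CfsgLib.Spor.Fi23Two

/-- linear map given by rows -/
def applyM : List ℕ → ℕ → ℕ
  | [], _ => 0
  | r :: rs, v => (bif Nat.beq (v % 2) 1 then r else 0) ^^^ applyM rs (v / 2)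

theorem xor_mod_two (v w : ℕ) : (v ^^^ w) % 2 = (v % 2 + w % 2) % 2 := by
  have h := Nat.xor_mod_two_eq_one (a := v) (b := w)
  omega

theorem applyM_xor : ∀ (rs : List ℕ) (v w : ℕ), applyM rs (v ^^^ w) = applyM rs v ^^^ applyM rs w
  | [], _, _ => by simp [applyM]
  | r :: rs, v, w => by
    simp only [applyM, Nat.xor_div_two, applyM_xor rs, xor_mod_two]
    rcases Nat.mod_two_eq_zero_or_one v with h | h <;> rcases Nat.mod_two_eq_zero_or_one w with h' | h' <;>
      simp [h, h', show Nat.beq 0 1 = false from rfl, show Nat.beq 1 1 = true from rfl,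
        Nat.xor_assoc, Nat.xor_comm, Nat.xor_left_comm]

theorem applyM_zero : ∀ rs : List ℕ, applyM rs 0 = 0
  | [] => rfl
  | r :: rs => by simp [applyM, applyM_zero rs, show Nat.beq 0 1 = false from rfl]

theorem applyM_lt {k : ℕ} : ∀ (rs : List ℕ) (v : ℕ), (∀ r ∈ rs, r < 2 ^ k) → applyM rs v < 2 ^ k
  | [], _, _ => Nat.two_pow_pos k
  | r :: rs, v, h => by
    refine Nat.xor_lt_two_pow ?_ (applyM_lt rs _ fun x hx => h x (List.mem_cons_of_mem _ hx))
    cases Nat.beq (v % 2) 1
    · exact Nat.two_pow_pos k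
    · exact h r List.mem_cons_self

/-- compositions of linear maps selected by bits -/
def muApp : List (List ℕ) → ℕ → ℕ → ℕ
  | [], _, v => v
  | m :: ms, u, v => bif Nat.beq (u % 2) 1 then applyM m (muApp ms (u / 2) v) else muApp ms (u / 2) v

theorem muApp_xor : ∀ (ms : List (List ℕ)) (u v w : ℕ),
    muApp ms u (v ^^^ w) = muApp ms u v ^^^ muApp ms u w
  | [], _, _, _ => rfl
  | m :: ms, u, v, w => by
    simp only [muApp, muApp_xor ms]
    cases Nat.beq (u % 2) 1
    · rfl
    · exact applyM_xor _ _ _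

/-- an additive map is determined by the basis -/
theorem linear_eq : ∀ (k : ℕ) (f : ℕ → ℕ), (∀ v w, f (v ^^^ w) = f v ^^^ f w) → ∀ v, v < 2 ^ k →
    applyM ((List.range k).map fun j => f (2 ^ j)) v = f v
  | 0, f, hf, v, hv => by
    obtain rfl : v = 0 := by simpa using hv
    have := hf 0 0
    simpa [applyM] using this.symm
  | k + 1, f, hf, v, hv => by
    have ih := linear_eq k (fun w => f (2 * w)) (fun a b => by
      have e : 2 * (a ^^^ b) = (2 * a) ^^^ (2 * b) := by
        have := Nat.shiftLeft_xor_distrib (i := 1) (a := a) (b := b)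
        simpa [Nat.shiftLeft_eq, mul_comm] using this
      simp only [e, hf]) (v / 2) (by rw [pow_succ] at hv; omega)
    have e : v = (v % 2) ^^^ (2 * (v / 2)) := by
      refine Nat.eq_of_testBit_eq fun i => ?_
      rcases i with _ | i
      · simp [Nat.testBit_zero, xor_mod_two]
      · rw [Nat.testBit_succ, Nat.testBit_succ, Nat.xor_div_two]
        congr 1
        simp
    rw [List.range_succ_eq_map, List.map_cons, List.map_map, applyM]
    have e2 : ((List.range k).map ((fun j => f (2 ^ j)) ∘ Nat.succ)) =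
        (List.range k).map fun j => f (2 * 2 ^ j) := by
      refine List.map_congr_left fun j _ => ?_
      simp [pow_succ, mul_comm]
    rw [e2, ih]
    conv_rhs => rw [e, hf]
    congr 1
    have h0 : f 0 = 0 := by have := hf 0 0; simpa using this
    rcases Nat.mod_two_eq_zero_or_one v with h | h <;>
      simp [h, h0, show Nat.beq 0 1 = false from rfl, show Nat.beq 1 1 = true from rfl]

variable {G : Type*} [Group G]

/-- product selected by bits -/
def prodSel : List G → ℕ → G
  | [], _ => 1
  | g :: gs, v => (bif Nat.beq (v % 2) 1 then g else 1) * prodSel gs (v / 2)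

theorem prodSel_mem {K : Subgroup G} : ∀ (gs : List G) (v : ℕ), (∀ g ∈ gs, g ∈ K) → prodSel gs v ∈ K
  | [], _, _ => one_mem K
  | g :: gs, v, h => by
    refine mul_mem ?_ (prodSel_mem gs _ fun x hx => h x (List.mem_cons_of_mem _ hx))
    cases Nat.beq (v % 2) 1
    · exact one_mem K
    · exact h g List.mem_cons_self

theorem prodSel_zero : ∀ gs : List G, prodSel gs 0 = 1
  | [] => rfl
  | g :: gs => by simp [prodSel, prodSel_zero gs, show Nat.beq 0 1 = false from rfl]

theorem prodSel_two_pow : ∀ (gs : List G) (j : ℕ) (h : j < gs.length), prodSel gs (2 ^ j) = gs[j]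
  | g :: gs, 0, _ => by simp [prodSel, prodSel_zero, show Nat.beq 1 1 = true from rfl]
  | g :: gs, j + 1, h => by
    have h1 : 2 ^ (j + 1) % 2 = 0 := by rw [pow_succ]; omega
    have h2 : 2 ^ (j + 1) / 2 = 2 ^ j := by rw [pow_succ]; omega
    simp [prodSel, h1, h2, show Nat.beq 0 1 = false from rfl, prodSel_two_pow gs j (by simpa using h)]

theorem prodSel_xor : ∀ (gs : List G), (∀ g ∈ gs, g * g = 1) → (∀ g ∈ gs, ∀ h ∈ gs, Commute g h) →
    ∀ v w, prodSel gs (v ^^^ w) = prodSel gs v * prodSel gs w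
  | [], _, _, _, _ => by simp [prodSel]
  | g :: gs, hs, hc, v, w => by
    have ih := prodSel_xor gs (fun x hx => hs x (List.mem_cons_of_mem _ hx))
      (fun x hx y hy => hc x (List.mem_cons_of_mem _ hx) y (List.mem_cons_of_mem _ hy)) (v / 2) (w / 2)
    have hg : ∀ u, prodSel gs u * g = g * prodSel gs u := fun u => by
      have h : prodSel gs u ∈ Subgroup.centralizer ({g} : Set G) :=
        prodSel_mem gs u fun x hx => Subgroup.mem_centralizer_singleton_iff.2
          (hc x (List.mem_cons_of_mem _ hx) g List.mem_cons_self)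
      exact Subgroup.mem_centralizer_singleton_iff.1 h
    simp only [prodSel, Nat.xor_div_two, ih, xor_mod_two]
    rcases Nat.mod_two_eq_zero_or_one v with h | h <;> rcases Nat.mod_two_eq_zero_or_one w with h' | h' <;>
      simp only [h, h', show Nat.beq 0 1 = false from rfl, show Nat.beq 1 1 = true from rfl, cond_true,
        cond_false, one_mul, Nat.reduceAdd, Nat.reduceMod]
    · rw [← mul_assoc _ g, hg, mul_assoc]
    · rw [mul_assoc]
    · rw [mul_assoc, ← mul_assoc (prodSel gs (v / 2)) g, hg, ← mul_assoc, ← mul_assoc, hs g List.mem_cons_self,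
        one_mul]

/-- the coordinates of a subgroup in an extension -/
structure Model (G : Type*) [Group G] where
  a : ℕ → G
  r : ℕ → G
  rows : ℕ → List ℕ

/-- the action of a representative -/
def Model.act (M : Model G) (u v : ℕ) : ℕ := applyM (M.rows u) v

/-- the basis is fixed by the composite -/
def commB (rows : ℕ → List ℕ) (u z : ℕ) : Bool :=
  (List.range 11).all fun j =>
    Nat.beq (applyM (rows u) (applyM (rows z) (2 ^ j))) (applyM (rows z) (applyM (rows u) (2 ^ j)))

/-- the representative acts as an involution or trivially -/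
def invB (rows : ℕ → List ℕ) (u : ℕ) : Bool :=
  (List.range 11).all fun j => Nat.beq (applyM (rows u) (applyM (rows u) (2 ^ j))) (2 ^ j)

/-- the span of a list is moved -/
def movedB (rows : ℕ → List ℕ) (us : List ℕ) (W : List ℕ) : Bool :=
  (W.all fun x => Nat.blt x 2048) && (List.range (2 ^ W.length)).all fun c =>
    Nat.beq c 0 || us.any fun u => !Nat.beq (applyM (rows u) (applyM W c)) (applyM W c)

/-- the bound for single involutions -/
def oneB (rows : ℕ → List ℕ) (l : List (ℕ × List ℕ)) : Bool :=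
  (l.all fun q => Nat.blt 1 q.2.length && movedB rows [q.1] q.2) &&
    (List.range 128).all fun u => Nat.beq u 0 || !invB rows u || l.any fun q => Nat.beq q.1 u

/-- the bound for commuting pairs -/
def twoB (rows : ℕ → List ℕ) (l : List (ℕ × ℕ × List ℕ)) : Bool :=
  let I := (List.range 128).filter (invB rows)
  (l.all fun q => movedB rows [q.1, q.2.1] q.2.2 &&
      Nat.blt (I.filter fun w => commB rows q.1 w && commB rows q.2.1 w).length (2 ^ q.2.2.length)) &&
    I.all fun u => Nat.beq u 0 || I.all fun z =>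
      !Nat.blt u z || !commB rows u z || l.any fun q => Nat.beq q.1 u && Nat.beq q.2.1 z

/-- the hypotheses on a model -/
structure Model.Good (M : Model G) : Prop where
  add : ∀ v w, M.a (v ^^^ w) = M.a v * M.a w
  inj : ∀ v, v < 2048 → M.a v = 1 → v = 0
  conj : ∀ u, u < 128 → ∀ v, v < 2048 → M.r u * M.a v = M.a (M.act u v) * M.r u
  lt : ∀ u, u < 128 → ∀ x ∈ M.rows u, x < 2 ^ 11
  r_zero : M.r 0 = 1

variable {M : Model G} (hM : M.Good)
include hM

theorem Model.a_inj {v w : ℕ} (hv : v < 2048) (hw : w < 2048) (h : M.a v = M.a w) : v = w := by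
  have h1 : M.a (v ^^^ w) = 1 := by
    rw [hM.add, h, ← hM.add, Nat.xor_self]
    have := hM.add 0 0
    rw [Nat.xor_self] at this
    exact mul_left_cancel (a := M.a 0) (by rw [← this, mul_one])
  exact Nat.xor_eq_zero_iff.1 (hM.inj _ (Nat.xor_lt_two_pow (n := 11) hv hw) h1)

theorem Model.conj_elem {u v x : ℕ} (hu : u < 128) (hx : x < 2048) :
    M.a v * M.r u * M.a x = M.a (M.act u x) * (M.a v * M.r u) := by
  rw [mul_assoc, hM.conj u hu x hx, ← mul_assoc, ← hM.add, Nat.xor_comm, hM.add, mul_assoc]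

theorem Model.act_lt {u x : ℕ} (hu : u < 128) : M.act u x < 2048 :=
  applyM_lt (k := 11) _ _ (hM.lt u hu)

/-- An elementary abelian subgroup inside the coordinates has order at most `2 ^ 11`, with equality
only for the abelian normal subgroup. -/
theorem Model.bound (L1 : List (ℕ × List ℕ)) (L2 : List (ℕ × ℕ × List ℕ))
    (h1 : oneB M.rows L1 = true) (h2 : twoB M.rows L2 = true) (A : Subgroup G)
    (hcov : ∀ g ∈ A, ∃ v u, v < 2048 ∧ u < 128 ∧ g = M.a v * M.r u)
    (hcomm : ∀ g ∈ A, ∀ h ∈ A, g * h = h * g) (hsq : ∀ g ∈ A, g * g = 1) :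
    Nat.card A ≤ 2048 ∧ (Nat.card A = 2048 → ∀ g ∈ A, ∃ v, v < 2048 ∧ g = M.a v) := by
  classical
  let U : Finset ℕ := (Finset.range 128).filter fun u => ∃ v, v < 2048 ∧ M.a v * M.r u ∈ A
  let K : Finset ℕ := (Finset.range 2048).filter fun v => M.a v ∈ A
  have hU : ∀ u ∈ U, u < 128 ∧ ∃ v, v < 2048 ∧ M.a v * M.r u ∈ A := fun u hu => by
    simpa [U] using hu
  have hUcomm : ∀ u ∈ U, ∀ z ∈ U, commB M.rows u z = true := by
    intro u hu z hz
    obtain ⟨hu, v, -, hg⟩ := hU u hu
    obtain ⟨hz, w, -, hh⟩ := hU z hz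
    simp only [commB, List.all_eq_true, List.mem_range, Nat.beq_eq]
    intro j hj
    have hx : 2 ^ j < 2048 := Nat.pow_lt_pow_right (by norm_num) hj (a := 2) (n := 11)
    refine Model.a_inj hM (Model.act_lt hM hu) (Model.act_lt hM hz) ?_
    have e1 : M.a v * M.r u * (M.a w * M.r z) * M.a (2 ^ j) =
        M.a (M.act u (M.act z (2 ^ j))) * (M.a v * M.r u * (M.a w * M.r z)) := by
      rw [mul_assoc (M.a v * M.r u), Model.conj_elem hM hz hx, ← mul_assoc,
        Model.conj_elem hM hu (Model.act_lt hM hz), mul_assoc]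
    have e2 : M.a w * M.r z * (M.a v * M.r u) * M.a (2 ^ j) =
        M.a (M.act z (M.act u (2 ^ j))) * (M.a w * M.r z * (M.a v * M.r u)) := by
      rw [mul_assoc (M.a w * M.r z), Model.conj_elem hM hu hx, ← mul_assoc,
        Model.conj_elem hM hz (Model.act_lt hM hu), mul_assoc]
    rw [hcomm _ hh _ hg] at e2
    exact mul_right_cancel (e1.symm.trans e2)
  have hUinv : ∀ u ∈ U, invB M.rows u = true := by
    intro u hu
    obtain ⟨hu, v, -, hg⟩ := hU u hu
    simp only [invB, List.all_eq_true, List.mem_range, Nat.beq_eq]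
    intro j hj
    have hx : 2 ^ j < 2048 := Nat.pow_lt_pow_right (by norm_num) hj (a := 2) (n := 11)
    refine Model.a_inj hM (Model.act_lt hM hu) hx ?_
    have e1 : M.a v * M.r u * (M.a v * M.r u) * M.a (2 ^ j) =
        M.a (M.act u (M.act u (2 ^ j))) * (M.a v * M.r u * (M.a v * M.r u)) := by
      rw [mul_assoc (M.a v * M.r u), Model.conj_elem hM hu hx, ← mul_assoc,
        Model.conj_elem hM hu (Model.act_lt hM hu), mul_assoc]
    rw [hsq _ hg, one_mul, mul_one] at e1
    exact e1.symm
  have hKfix : ∀ k ∈ K, k < 2048 ∧ ∀ u ∈ U, M.act u k = k := by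
    intro k hk
    simp only [K, Finset.mem_filter, Finset.mem_range] at hk
    refine ⟨hk.1, fun u hu => ?_⟩
    obtain ⟨hu, v, -, hg⟩ := hU u hu
    refine Model.a_inj hM (Model.act_lt hM hu) hk.1 ?_
    have e := Model.conj_elem hM (v := v) hu hk.1
    rw [hcomm _ hg _ hk.2] at e
    exact (mul_right_cancel e).symm
  have hcard : Nat.card A ≤ K.card * U.card := by
    have key : ∀ g : A, ∃ p : K × U, ∃ v, v < 2048 ∧ M.a v * M.r p.2 ∈ A ∧
        (g : G) = M.a p.1 * (M.a ((hU p.2.1 p.2.2).2.choose) * M.r p.2) := by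
      intro g
      obtain ⟨v, u, hv, hu, hg⟩ := hcov g g.2
      have huU : u ∈ U := Finset.mem_filter.2 ⟨Finset.mem_range.2 hu, v, hv, hg ▸ g.2⟩
      obtain ⟨hw, hwA⟩ := (hU u huU).2.choose_spec
      set w := (hU u huU).2.choose
      have hk : v ^^^ w ∈ K := by
        refine Finset.mem_filter.2 ⟨Finset.mem_range.2 (Nat.xor_lt_two_pow (n := 11) hv hw), ?_⟩
        have e : M.a (v ^^^ w) = (g : G) * (M.a w * M.r u) := by
          have h3 : M.a v * M.r u = M.a (v ^^^ w) * (M.a w * M.r u) := by
            rw [← mul_assoc, ← hM.add, Nat.xor_assoc, Nat.xor_self, Nat.xor_zero]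
          rw [hg, h3, mul_assoc (M.a (v ^^^ w)), hsq _ hwA, mul_one]
        rw [e]
        exact mul_mem g.2 hwA
      refine ⟨(⟨v ^^^ w, hk⟩, ⟨u, huU⟩), v, hv, hg ▸ g.2, ?_⟩
      show (g : G) = M.a (v ^^^ w) * (M.a w * M.r u)
      rw [← mul_assoc, ← hM.add, Nat.xor_assoc, Nat.xor_self, Nat.xor_zero, hg]
    choose p hp using key
    have hinj : Function.Injective p := fun g h e => by
      obtain ⟨-, -, -, eg⟩ := hp g
      obtain ⟨-, -, -, eh⟩ := hp h
      exact Subtype.ext (by rw [eg, eh, e])
    have := Nat.card_le_card_of_injective p hinj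
    simpa [Nat.card_prod] using this
  have hspan : ∀ (us W : List ℕ), (∀ u ∈ us, u ∈ U) → movedB M.rows us W = true →
      K.card * 2 ^ W.length ≤ 2048 := by
    intro us W hus hW
    simp only [movedB, Bool.and_eq_true, List.all_eq_true, Nat.blt_eq, List.mem_range, Bool.or_eq_true,
      List.any_eq_true, Bool.not_eq_true', Nat.beq_eq] at hW
    have hWlt : ∀ c, applyM W c < 2048 := fun c => applyM_lt (k := 11) W c hW.1
    let f : ℕ × ℕ → ℕ := fun q => q.1 ^^^ applyM W q.2
    have hmap : ∀ q ∈ K ×ˢ Finset.range (2 ^ W.length), f q ∈ Finset.range 2048 := fun q hq =>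
      Finset.mem_range.2 (Nat.xor_lt_two_pow (n := 11) (hKfix _ (Finset.mem_product.1 hq).1).1 (hWlt _))
    have hinj : Set.InjOn f (K ×ˢ Finset.range (2 ^ W.length) : Finset (ℕ × ℕ)) := by
      rintro ⟨k, c⟩ hq ⟨k', c'⟩ hq' e
      simp only [Finset.coe_product, Set.mem_prod, Finset.coe_range, Set.mem_Iio,
        Finset.mem_coe] at hq hq'
      change k ^^^ applyM W c = k' ^^^ applyM W c' at e
      have e1 : k ^^^ k' = applyM W (c ^^^ c') := by
        rw [applyM_xor]
        have := congrArg (fun x => x ^^^ applyM W c ^^^ k') e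
        simpa [Nat.xor_assoc, Nat.xor_comm, Nat.xor_left_comm, Nat.xor_self] using this
      rcases hW.2 (c ^^^ c') (Nat.xor_lt_two_pow hq.2 hq'.2) with h | ⟨u, hu, hne⟩
      · obtain rfl : c = c' := Nat.xor_eq_zero_iff.1 h
        rw [Nat.xor_self, applyM_zero] at e1
        rw [Nat.xor_eq_zero_iff.1 e1]
      · exfalso
        have hfix : M.act u (k ^^^ k') = k ^^^ k' := by
          show applyM (M.rows u) _ = _
          rw [applyM_xor]
          exact congrArg₂ (· ^^^ ·) ((hKfix k hq.1).2 u (hus u hu)) ((hKfix k' hq'.1).2 u (hus u hu))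
        rw [e1] at hfix
        rw [← Bool.not_eq_true, Nat.beq_eq] at hne
        exact hne hfix
    have := Finset.card_le_card_of_injOn f hmap hinj
    simpa using this
  by_cases hz : ∀ u ∈ U, u = 0
  · have hU1 : U.card ≤ 1 := Finset.card_le_one.2 fun u hu z hz' => by rw [hz u hu, hz z hz']
    refine ⟨hcard.trans ?_, fun _ g hg => ?_⟩
    · have : K.card ≤ 2048 := (Finset.card_filter_le _ _).trans (by simp)
      calc K.card * U.card ≤ 2048 * 1 := Nat.mul_le_mul this hU1
        _ = _ := by norm_num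
    · obtain ⟨v, u, hv, hu, e⟩ := hcov g hg
      obtain rfl : u = 0 := hz u (Finset.mem_filter.2 ⟨Finset.mem_range.2 hu, v, hv, e ▸ hg⟩)
      exact ⟨v, hv, by rw [e, hM.r_zero, mul_one]⟩
  push Not at hz
  obtain ⟨u, hu, hu0⟩ := hz
  suffices hlt : K.card * U.card < 2048 from
    ⟨by omega, fun e => by omega⟩
  by_cases hz : ∀ z ∈ U, z = 0 ∨ z = u
  · simp only [oneB, Bool.and_eq_true, List.all_eq_true, List.mem_range, Bool.or_eq_true,
      List.any_eq_true, Bool.not_eq_true', Nat.beq_eq, Nat.blt_eq] at h1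
    rcases h1.2 u (hU u hu).1 with (h | h) | ⟨q, hq, rfl⟩
    · exact absurd h hu0
    · rw [hUinv u hu] at h; simp at h
    obtain ⟨hr, hm⟩ := h1.1 q hq
    have hb := hspan [q.1] q.2 (by simpa using hu) hm
    have hUc : U.card ≤ 2 := (Finset.card_le_card (t := {0, q.1}) fun z h => by simpa using hz z h).trans
      Finset.card_le_two
    have h4 : 4 ≤ 2 ^ q.2.length := le_trans (by norm_num) (Nat.pow_le_pow_right (by norm_num) hr)
    have h5 : K.card * 4 ≤ 2048 := le_trans (Nat.mul_le_mul_left _ h4) hb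
    calc K.card * U.card ≤ K.card * 2 := Nat.mul_le_mul_left _ hUc
      _ < 2048 := by omega
  · push Not at hz
    obtain ⟨z, hz, hz0, hzu⟩ := hz
    simp only [twoB, Bool.and_eq_true, List.all_eq_true, Bool.or_eq_true, List.any_eq_true,
      Bool.not_eq_true', Nat.beq_eq, List.mem_filter, List.mem_range] at h2
    have main : ∀ u ∈ U, ∀ z ∈ U, u ≠ 0 → u < z → K.card * U.card < 2048 := by
      intro u hu z hz hu0 hlt
      rcases (h2.2 u ⟨(hU u hu).1, hUinv u hu⟩).resolve_left hu0 z ⟨(hU z hz).1, hUinv z hz⟩ with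
        (h | h) | ⟨q, hq, rfl, rfl⟩
      · rw [← Bool.not_eq_true, Nat.blt_eq] at h; exact absurd hlt h
      · rw [hUcomm u hu z hz] at h; simp at h
      obtain ⟨hm, hc⟩ := h2.1 q hq
      rw [Nat.blt_eq] at hc
      have hb := hspan [q.1, q.2.1] q.2.2 (by simp [hu, hz]) hm
      set I := ((List.range 128).filter (invB M.rows)).filter
        fun w => commB M.rows q.1 w && commB M.rows q.2.1 w with hI
      have hUc : U.card ≤ I.length := by
        refine le_trans (Finset.card_le_card (t := I.toFinset) fun w hw => ?_) (List.toFinset_card_le _)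
        simp [hI, (hU w hw).1, hUinv w hw, hUcomm q.1 hu w hw, hUcomm q.2.1 hz w hw]
      rcases Nat.eq_zero_or_pos K.card with h0 | h0
      · simp [h0]
      calc K.card * U.card ≤ K.card * I.length := Nat.mul_le_mul_left _ hUc
        _ < K.card * 2 ^ q.2.2.length := Nat.mul_lt_mul_of_pos_left hc h0
        _ ≤ 2048 := hb
    rcases Nat.lt_or_gt_of_ne hzu with hl | hl
    · exact main z hz u hu hz0 hl
    · exact main u hu z hz hu0 hl

end CfsgLib.Spor.Fi23Two
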