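import Cfsg.Agent.Lib.Spor.Fi23.Simple
import Cfsg.Agent.Lib.Spor.Fi23Two.Alg
import Cfsg.Agent.Lib.Spor.Fi23Two.Data

/-!
An element of the presented group Fi23 is determined by the images of ten base points; words in the
tabulated permutations give elements.
-/

set_option autoImplicit false
set_option maxRecDepth 100000

namespace CfsgLib.Spor.Fi23Two

open CfsgLib.PresCert CfsgLib.Spor.Fi23 Equiv

/-- the tabulated images -/
noncomputable abbrev D : Wide.PermData := Perm.data

/-- the bases of a list of levels on top of a list -/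
def finalBs (ls : List Level) (bs : List ℕ) : List ℕ := ls.foldl (fun b L => L.base :: b) bs

open Wide.PermData in
theorem levels_bound_exact {D : Wide.PermData} (I : Wide.PermData.Interp D)
    (hw : D.okWords D.g D.words = true) :
    ∀ (ls : List Level) (bs : List Nat), D.okLevels bs ls = true →
      (ls.map Level.len).prod * Nat.card (fixing I (finalBs ls bs)) ≤ Nat.card (fixing I bs)
  | [], bs, _ => by simp [finalBs]
  | L :: ls, bs, h => by
    simp only [okLevels, okOrbit, Bool.and_eq_true, List.all_eq_true, List.mem_range, Nat.blt_eq,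
      Nat.beq_eq, Bool.or_eq_true] at h
    obtain ⟨⟨⟨⟨⟨⟨⟨⟨hlen, horb0⟩, hbase⟩, hpos0⟩, hgens⟩, horb'⟩, hfix⟩, -⟩, hrest⟩ := h
    have horb := fun p hp => allBelow_spec horb' p hp
    simp only [Bool.and_eq_true, Bool.or_eq_true, Nat.blt_eq, Nat.beq_eq] at horb
    have ih := levels_bound_exact I hw ls _ hrest
    let b : Fin D.n := ⟨L.base, hbase⟩
    let K := fixing I bs
    have key : ∀ p, p < L.len → ∃ σ ∈ K, ((σ b : Fin D.n) : Nat) = Nat.land (L.orb.word p) 65535 := by
      intro p
      induction p using Nat.strong_induction_on with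
      | _ p ihp =>
        intro hp
        obtain ⟨-, hp0 | ⟨⟨hpar, hk⟩, himg⟩⟩ := horb p hp
        · subst hp0
          exact ⟨1, one_mem _, by rw [horb0]; rfl⟩
        obtain ⟨σ, hσ, eσ⟩ := ihp _ hpar (hpar.trans hp)
        have hmem : L.gens.getD (Nat.shiftRight (L.orb.word p) 32) 0 ∈ L.gens := by
          rw [List.getD_eq_getElem?_getD, List.getElem?_eq_getElem hk]
          exact List.getElem_mem hk
        obtain ⟨τ, hτ, eτ⟩ := elem_exists I hw _ (hgens _ hmem)
        have hτK : τ ∈ K := ⟨hτ, fun i hi => Fin.ext (by rw [eτ, hfix _ hmem i hi])⟩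
        exact ⟨τ * σ, mul_mem hτK hσ, by rw [Perm.mul_apply, eτ, eσ, himg]⟩
    choose σ hσ eσ using key
    let φ : Fin L.len × fixing I (L.base :: bs) → K := fun q =>
      ⟨σ q.1 q.1.2 * (q.2 : Perm (Fin D.n)), mul_mem (hσ _ _)
        ⟨q.2.2.1, fun i hi => q.2.2.2 i (List.mem_cons_of_mem _ hi)⟩⟩
    have hφ : Function.Injective φ := by
      rintro ⟨p, τ⟩ ⟨p', τ'⟩ h
      have h' : σ p p.2 * (τ : Perm (Fin D.n)) = σ p' p'.2 * (τ' : Perm (Fin D.n)) :=
        congrArg Subtype.val h
      have hb : (τ : Perm (Fin D.n)) b = b := τ.2.2 b (List.mem_cons_self ..)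
      have hb' : (τ' : Perm (Fin D.n)) b = b := τ'.2.2 b (List.mem_cons_self ..)
      have hp : (p : Nat) = p' := by
        have e := congrArg (fun π : Perm (Fin D.n) => ((π b : Fin D.n) : Nat)) h'
        simp only [Perm.mul_apply, hb, hb', eσ] at e
        rw [← (horb p p.2).1.2, ← (horb p' p'.2).1.2, e]
      obtain rfl : p = p' := Fin.ext hp
      exact Prod.ext rfl (Subtype.ext (mul_left_cancel h'))
    have hc := Nat.card_le_card_of_injective φ hφ
    rw [Nat.card_prod, Nat.card_eq_fintype_card, Fintype.card_fin] at hc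
    rw [List.map_cons, List.prod_cons, mul_assoc]
    exact le_trans (Nat.mul_le_mul_left _ ih) hc

theorem levels_prod : (Perm.levels.map Level.len).prod = 4089470473293004800 := by decide +kernel

theorem finalBs_sub : ((finalBs Perm.levels []).all fun b => bp.any (Nat.beq b)) = true := by
  decide +kernel

theorem grp_le_range : Wide.PermData.grp (Wide.PermData.interp Perm.invol_ok) ≤ π.range := by
  rw [Wide.PermData.grp, Subgroup.closure_le]
  rintro _ ⟨k, hk, rfl⟩
  obtain ⟨x, rfl⟩ := idx_surj k hk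
  exact ⟨gen x, Wide.rep_of Perm.invol_ok wordsFor relNums_ok rels_covered x⟩

theorem range_le_grp : π.range ≤ Wide.PermData.grp (Wide.PermData.interp Perm.invol_ok) := by
  have h : (⊤ : Subgroup Cfsg.Spor.Fi23) = lettersGroup allGens gen :=
    (top_eq_lettersGroup (edges := Cfsg.Spor.Fi23.edges) (extra := Cfsg.Spor.Fi23.extra) allGens mem_allGens).symm
  rw [MonoidHom.range_eq_map, h, map_lettersGroup, Subgroup.closure_le]
  rintro _ ⟨k, hk, rfl⟩
  obtain ⟨x, -, rfl⟩ := List.mem_map.1 hk
  exact Subgroup.subset_closure ⟨idx x, idx_lt x, rfl⟩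

theorem eq_one_of_base (g : Cfsg.Spor.Fi23)
    (h : ∀ i : Fin D.n, (i : ℕ) ∈ bp → π g i = i) : g = 1 := by
  haveI := finite
  set I := Wide.PermData.interp Perm.invol_ok
  have hc : Nat.card (Wide.PermData.grp I) = 4089470473293004800 := by
    rw [le_antisymm grp_le_range range_le_grp, ← Nat.card_congr (MonoidHom.ofInjective π_injective).toEquiv,
      natCard]
  have hb := levels_bound_exact I Perm.words_ok Perm.levels [] Perm.levels_ok
  rw [levels_prod] at hb
  have hle : Nat.card (Wide.PermData.fixing I []) ≤ 4089470473293004800 := by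
    rw [← hc]
    exact Nat.card_le_card_of_injective (fun σ : Wide.PermData.fixing I [] =>
      (⟨σ, σ.2.1⟩ : Wide.PermData.grp I)) fun a b e => Subtype.ext (congrArg Subtype.val e :)
  have h1 : Nat.card (Wide.PermData.fixing I (finalBs Perm.levels [])) ≤ 1 := by
    by_contra hc'
    have := Nat.mul_le_mul_left 4089470473293004800 (Nat.lt_of_not_le hc')
    omega
  haveI := Finite.card_le_one_iff_subsingleton.1 h1
  have hm : π g ∈ Wide.PermData.fixing I (finalBs Perm.levels []) := by
    refine ⟨range_le_grp ⟨g, rfl⟩, fun i hi => h i ?_⟩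
    obtain ⟨b, hb, e⟩ := List.any_eq_true.1 (List.all_eq_true.1 finalBs_sub _ hi)
    rwa [Nat.eq_of_beq_eq_true e]
  have e : (⟨π g, hm⟩ : Wide.PermData.fixing I (finalBs Perm.levels [])) = 1 := Subsingleton.elim _ _
  exact π_injective ((congrArg Subtype.val e).trans (map_one π).symm)

theorem eq_of_base (g h : Cfsg.Spor.Fi23)
    (e : ∀ i : Fin D.n, (i : ℕ) ∈ bp → π g i = π h i) : g = h := by
  refine (inv_mul_eq_one.1 (eq_one_of_base (h⁻¹ * g) fun i hi => ?_)).symm
  rw [map_mul, map_inv, Equiv.Perm.mul_apply, e i hi, Equiv.Perm.inv_def, Equiv.symm_apply_apply]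

theorem elem (k : ℕ) : ∃ g : Cfsg.Spor.Fi23,
    k < 21 → ∀ i : Fin D.n, ((π g i : Fin D.n) : ℕ) = D.img k i := by
  by_cases hk : k < 21
  · obtain ⟨σ, hσ, e⟩ := Wide.PermData.elem_exists (Wide.PermData.interp Perm.invol_ok) Perm.words_ok k hk
    obtain ⟨g, rfl⟩ := grp_le_range hσ
    exact ⟨g, fun _ => e⟩
  · exact ⟨1, fun h => absurd h hk⟩

/-- the element of a word, the first letter acting first -/
noncomputable def wEl : List ℕ → Cfsg.Spor.Fi23
  | [] => 1
  | k :: w => wEl w * (elem k).choose

theorem π_wEl : ∀ (w : List ℕ), (w.all fun k => Nat.blt k 21) = true → ∀ i : Fin D.n,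
    ((π (wEl w) i : Fin D.n) : ℕ) = D.app w i
  | [], _, i => by simp [wEl, Wide.PermData.app]
  | k :: w, h, i => by
    simp only [List.all_cons, Bool.and_eq_true, Nat.blt_eq] at h
    rw [wEl, map_mul, Equiv.Perm.mul_apply, π_wEl w h.2, (elem k).choose_spec h.1]
    rfl

/-- all letters of a list of words are tabulated -/
def lettersB (ws : List (List ℕ)) : Bool := ws.all fun w => w.all fun k => Nat.blt k 21

/-- image under a product selected by bits -/
noncomputable def imgSel : List (List ℕ) → ℕ → ℕ → ℕ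
  | [], _, i => i
  | w :: ws, v, i => bif Nat.beq (v % 2) 1 then D.app w (imgSel ws (v / 2) i) else imgSel ws (v / 2) i

theorem π_prodSel : ∀ (ws : List (List ℕ)), lettersB ws = true → ∀ (v : ℕ) (i : Fin D.n),
    ((π (prodSel (ws.map wEl) v) i : Fin D.n) : ℕ) = imgSel ws v i
  | [], _, _, i => by simp [prodSel, imgSel]
  | w :: ws, h, v, i => by
    simp only [lettersB, List.all_cons, Bool.and_eq_true] at h
    rw [List.map_cons, prodSel, imgSel, map_mul, Equiv.Perm.mul_apply]
    cases Nat.beq (v % 2) 1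
    · simp only [cond_false, map_one, Equiv.Perm.one_apply]
      exact π_prodSel ws h.2 _ i
    · simp only [cond_true]
      rw [π_wEl w h.1, π_prodSel ws h.2]

end CfsgLib.Spor.Fi23Two
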