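import Cfsg.Agent.Lib.Spor.Fi23Two.Base

/-!
Kernel checks for the Sylow 2-subgroup of Fi23.
-/

set_option autoImplicit false
set_option maxRecDepth 100000
set_option Elab.async false

namespace CfsgLib.Spor.Fi23Two

open CfsgLib.PresCert

/-- equality of the images of the base points -/
def eqL : List ℕ → List ℕ → Bool
  | [], [] => true
  | a :: v, b :: w => Nat.beq a b && eqL v w
  | _, _ => false

/-- the rows of a representative -/
def rows (u : ℕ) : List ℕ := muTab.getD u []

/-- the transpositions are involutions and commute -/
noncomputable def commCheck : Bool :=
  aTab.all fun a => aTab.all fun b => bp.all fun i =>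
    Nat.beq (D.app a (D.app b i)) (D.app b (D.app a i)) && Nat.beq (D.app a (D.app a i)) i

/-- conjugation of the transpositions by a further generator -/
noncomputable def genCheck (k : ℕ) : Bool :=
  (List.range 11).all fun j => bp.all fun i =>
    Nat.beq (D.app (tTab.getD k []) (D.app (aTab.getD j []) i))
      (imgSel aTab ((mTab.getD k []).getD j 0) (D.app (tTab.getD k []) i))

/-- the tabulated images of representatives -/
noncomputable def rimCheck : Bool :=
  (List.range 128).all fun u => eqL (bp.map (imgSel tTab u)) (rimTab.getD u [])

/-- the left translation of a further generator -/
noncomputable def transCheck (k : ℕ) : Bool :=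
  (List.range 128).all fun u =>
    let q := (r3Tab.getD k []).getD u (0, 0)
    Nat.blt q.1 128 && Nat.blt q.2 2048 &&
      eqL ((rimTab.getD u []).map (D.app (tTab.getD k [])))
        ((rimTab.getD q.1 []).map (imgSel aTab q.2))

/-- base images of the nontrivial products -/
noncomputable def nzI : List (List ℕ) → List (List ℕ)
  | [] => []
  | w :: ws => nzI ws ++ (bp :: nzI ws).map (List.map (D.app w))

/-- the matrices of the representatives -/
noncomputable def muCheck : Bool :=
  (List.range 128).all fun u =>
    eqL ((List.range 11).map fun j => muApp mTab u (2 ^ j)) (rows u) && (rows u).all (fun x => Nat.blt x 2048)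

/-- the matrices differ -/
def distinctCheck : Bool :=
  (List.range 128).all fun u => (List.range 128).all fun z => Nat.beq u z || !eqL (rows u) (rows z)

theorem letters_a : lettersB aTab = true := by decide +kernel
theorem letters_t : lettersB tTab = true := by decide +kernel
theorem lengths : aTab.length = 11 ∧ tTab.length = 7 ∧ mTab.length = 7 ∧
    (mTab.all fun m => Nat.beq m.length 11 && m.all fun x => Nat.blt x 2048) = true ∧
    (bp.all fun i => Nat.blt i 31671) = true := by decide +kernel
theorem comm_ok : commCheck = true := by decide +kernel
theorem gen0_ok : genCheck 0 = true := by decide +kernel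
theorem gen1_ok : genCheck 1 = true := by decide +kernel
theorem gen2_ok : genCheck 2 = true := by decide +kernel
theorem gen3_ok : genCheck 3 = true := by decide +kernel
theorem gen4_ok : genCheck 4 = true := by decide +kernel
theorem gen5_ok : genCheck 5 = true := by decide +kernel
theorem gen6_ok : genCheck 6 = true := by decide +kernel
theorem rim_ok : rimCheck = true := by decide +kernel
theorem trans0_ok : transCheck 0 = true := by decide +kernel
theorem trans1_ok : transCheck 1 = true := by decide +kernel
theorem trans2_ok : transCheck 2 = true := by decide +kernel
theorem trans3_ok : transCheck 3 = true := by decide +kernel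
theorem trans4_ok : transCheck 4 = true := by decide +kernel
theorem trans5_ok : transCheck 5 = true := by decide +kernel
theorem trans6_ok : transCheck 6 = true := by decide +kernel
theorem nz_ok : ((nzI aTab).all fun x => !eqL x bp) = true := by decide +kernel
theorem mu_ok : muCheck = true := by decide +kernel
theorem distinct_ok : distinctCheck = true := by decide +kernel
theorem one_ok : oneB rows oneTab = true := by decide +kernel
theorem two_ok : twoB rows twoTab = true := by decide +kernel

end CfsgLib.Spor.Fi23Two
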