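import Cfsg.Agent.Lib.Spor.Fi23Two.Checks
import Cfsg.Prelude.Def_Transfer

/-!
A Sylow 2-subgroup of Fi23 has exactly one elementary abelian normal subgroup of order `2 ^ 11`, and
no elementary abelian subgroup of larger order.
-/

set_option autoImplicit false
set_option maxRecDepth 100000

namespace CfsgLib.Spor.Fi23Two

open CfsgLib.PresCert CfsgLib.Spor.Fi23

theorem eqL_iff : ∀ {v w : List ℕ}, eqL v w = true ↔ v = w
  | [], [] => by simp [eqL]
  | [], _ :: _ => by simp [eqL]
  | _ :: _, [] => by simp [eqL]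
  | a :: v, b :: w => by simp [eqL, eqL_iff (v := v) (w := w)]

/-- the transpositions -/
noncomputable def aL : List Cfsg.Spor.Fi23 := aTab.map wEl

/-- the further generators -/
noncomputable def tL : List Cfsg.Spor.Fi23 := tTab.map wEl

/-- the model -/
noncomputable def M : Model Cfsg.Spor.Fi23 := ⟨prodSel aL, prodSel tL, rows⟩

theorem bp_lt {i : ℕ} (h : i ∈ bp) : i < D.n := by
  rw [show D.n = 31671 from degree]
  exact Nat.blt_eq.mp (List.all_eq_true.1 lengths.2.2.2.2 i h)

theorem letters_a' {w : List ℕ} (h : w ∈ aTab) : (w.all fun k => Nat.blt k 21) = true :=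
  List.all_eq_true.1 letters_a w h

theorem letters_t' {w : List ℕ} (h : w ∈ tTab) : (w.all fun k => Nat.blt k 21) = true :=
  List.all_eq_true.1 letters_t w h

theorem getD_mem {l : List (List ℕ)} {k : ℕ} (h : k < l.length) : l.getD k [] ∈ l := by
  rw [List.getD_eq_getElem _ _ h]; exact List.getElem_mem h

theorem a_facts : (∀ g ∈ aL, g * g = 1) ∧ ∀ g ∈ aL, ∀ h ∈ aL, Commute g h := by
  have key := comm_ok
  simp only [commCheck, List.all_eq_true, Bool.and_eq_true, Nat.beq_eq] at key
  constructor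
  · intro g hg
    obtain ⟨w, hw, rfl⟩ := List.mem_map.1 hg
    refine eq_one_of_base _ fun i hi => Fin.ext ?_
    rw [map_mul, Equiv.Perm.mul_apply, π_wEl w (letters_a' hw), π_wEl w (letters_a' hw)]
    exact (key w hw w hw i hi).2
  · intro g hg h hh
    obtain ⟨w, hw, rfl⟩ := List.mem_map.1 hg
    obtain ⟨w', hw', rfl⟩ := List.mem_map.1 hh
    refine eq_of_base _ _ fun i hi => Fin.ext ?_
    rw [map_mul, map_mul, Equiv.Perm.mul_apply, Equiv.Perm.mul_apply, π_wEl w (letters_a' hw),
      π_wEl w' (letters_a' hw'), π_wEl w' (letters_a' hw'), π_wEl w (letters_a' hw)]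
    exact (key w hw w' hw' i hi).1

theorem a_add (v w : ℕ) : M.a (v ^^^ w) = M.a v * M.a w := prodSel_xor aL a_facts.1 a_facts.2 v w

theorem gen_ok {k : ℕ} (hk : k < 7) : genCheck k = true := by
  interval_cases k
  exacts [gen0_ok, gen1_ok, gen2_ok, gen3_ok, gen4_ok, gen5_ok, gen6_ok]

theorem trans_ok {k : ℕ} (hk : k < 7) : transCheck k = true := by
  interval_cases k
  exacts [trans0_ok, trans1_ok, trans2_ok, trans3_ok, trans4_ok, trans5_ok, trans6_ok]

theorem gen_basis {k j : ℕ} (hk : k < 7) (hj : j < 11) :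
    wEl (tTab.getD k []) * wEl (aTab.getD j []) =
      M.a ((mTab.getD k []).getD j 0) * wEl (tTab.getD k []) := by
  have key := gen_ok hk
  simp only [genCheck, List.all_eq_true, List.mem_range, Nat.beq_eq] at key
  have ht := letters_t' (getD_mem (l := tTab) (k := k) (by rw [lengths.2.1]; exact hk))
  have ha := letters_a' (getD_mem (l := aTab) (k := j) (by rw [lengths.1]; exact hj))
  refine eq_of_base _ _ fun i hi => Fin.ext ?_
  rw [map_mul, map_mul, Equiv.Perm.mul_apply, Equiv.Perm.mul_apply]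
  show ((π (wEl (tTab.getD k [])) _ : Fin D.n) : ℕ) = ((π (prodSel (aTab.map wEl) _) _ : Fin D.n) : ℕ)
  rw [π_wEl _ ht, π_wEl _ ha, π_prodSel _ letters_a, π_wEl _ ht]
  exact key j hj i hi

theorem conj_of_pairs {A : ℕ → Cfsg.Spor.Fi23} (hA : ∀ v w, A (v ^^^ w) = A v * A w)
    (h0 : A 0 = 1) (t : Cfsg.Spor.Fi23) :
    ∀ (gs : List Cfsg.Spor.Fi23) (rs : List ℕ), gs.length = rs.length →
      (∀ j, j < gs.length → t * gs.getD j 1 = A (rs.getD j 0) * t) →
      ∀ v, t * prodSel gs v = A (applyM rs v) * t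
  | [], [], _, _, v => by simp [prodSel, applyM, h0]
  | g :: gs, [], hl, _, _ => by simp at hl
  | [], _ :: _, hl, _, _ => by simp at hl
  | g :: gs, r :: rs, hl, h, v => by
    have ih := conj_of_pairs hA h0 t gs rs (by simpa using hl)
      (fun j hj => by simpa using h (j + 1) (by simpa using hj)) (v / 2)
    have hg : t * g = A r * t := by simpa using h 0 (by simp)
    rw [prodSel, applyM, hA, ← mul_assoc, mul_assoc (A _) (A _) t, ← ih]
    cases Nat.beq (v % 2) 1
    · simp [h0]
    · simp [hg, mul_assoc]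

theorem conj_gen {k : ℕ} (hk : k < 7) (v : ℕ) :
    wEl (tTab.getD k []) * M.a v = M.a (applyM (mTab.getD k []) v) * wEl (tTab.getD k []) := by
  have hl : (mTab.getD k []).length = 11 := by
    have := List.all_eq_true.1 lengths.2.2.2.1 _ (getD_mem (l := mTab) (k := k) (by rw [lengths.2.2.1]; exact hk))
    rw [Bool.and_eq_true, Nat.beq_eq] at this
    exact this.1
  refine conj_of_pairs a_add (prodSel_zero aL) _ aL _ (by rw [hl, aL, List.length_map, lengths.1]) ?_ v
  intro j hj
  rw [aL, List.length_map, lengths.1] at hj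
  rw [show aL.getD j 1 = wEl (aTab.getD j []) from List.getD_map _ [] wEl, gen_basis hk hj]

theorem conj_sel : ∀ (ts : List Cfsg.Spor.Fi23) (ms : List (List ℕ)), ts.length = ms.length →
    (∀ k, k < ts.length → ∀ v, ts.getD k 1 * M.a v = M.a (applyM (ms.getD k []) v) * ts.getD k 1) →
    ∀ u v, prodSel ts u * M.a v = M.a (muApp ms u v) * prodSel ts u
  | [], [], _, _, u, v => by simp [prodSel, muApp]
  | _ :: _, [], hl, _, _, _ => by simp at hl
  | [], _ :: _, hl, _, _, _ => by simp at hl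
  | t :: ts, m :: ms, hl, h, u, v => by
    have ih := conj_sel ts ms (by simpa using hl)
      (fun k hk => by simpa using h (k + 1) (by simpa using hk)) (u / 2) v
    have ht : ∀ w, t * M.a w = M.a (applyM m w) * t := fun w => by simpa using h 0 (by simp) w
    rw [prodSel, muApp, mul_assoc, ih, ← mul_assoc]
    cases Nat.beq (u % 2) 1
    · simp
    · simp [ht, mul_assoc]

theorem conj_r (u v : ℕ) : M.r u * M.a v = M.a (muApp mTab u v) * M.r u := by
  refine conj_sel tL mTab (by rw [tL, List.length_map, lengths.2.1, lengths.2.2.1]) (fun k hk w => ?_) u v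
  rw [tL, List.length_map, lengths.2.1] at hk
  rw [show tL.getD k 1 = wEl (tTab.getD k []) from List.getD_map _ [] wEl]
  exact conj_gen hk w

theorem act_eq {u v : ℕ} (hu : u < 128) (hv : v < 2048) : M.act u v = muApp mTab u v := by
  have key := mu_ok
  simp only [muCheck, List.all_eq_true, List.mem_range, Bool.and_eq_true, eqL_iff] at key
  show applyM (rows u) v = _
  rw [← (key u hu).1]
  exact linear_eq 11 _ (muApp_xor mTab u) v hv

theorem nzI_mem : ∀ (ws : List (List ℕ)) (v : ℕ), v ≠ 0 → v < 2 ^ ws.length →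
    bp.map (imgSel ws v) ∈ nzI ws
  | [], v, h0, h => absurd (by simpa using h) h0
  | w :: ws, v, h0, h => by
    have hlt : v / 2 < 2 ^ ws.length := by rw [List.length_cons, pow_succ] at h; omega
    rw [nzI, List.mem_append]
    rcases Nat.mod_two_eq_zero_or_one v with e | e
    · left
      have := nzI_mem ws (v / 2) (by omega) hlt
      simpa [imgSel, e, show Nat.beq 0 1 = false from rfl] using this
    · right
      refine List.mem_map.2 ⟨bp.map (imgSel ws (v / 2)), ?_, ?_⟩
      · by_cases hz : v / 2 = 0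
        · rw [hz, List.mem_cons]
          left
          have : ∀ (ws : List (List ℕ)) i, imgSel ws 0 i = i := by
            intro ws i
            induction ws with
            | nil => rfl
            | cons a l ih => simp [imgSel, ih, show Nat.beq 0 1 = false from rfl]
          rw [show imgSel ws 0 = id from funext (this ws), List.map_id]
        · exact List.mem_cons_of_mem _ (nzI_mem ws _ hz hlt)
      · rw [List.map_map]
        refine List.map_congr_left fun i _ => ?_
        simp [imgSel, e, show Nat.beq 1 1 = true from rfl]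

theorem a_inj' (v : ℕ) (hv : v < 2048) (h : M.a v = 1) : v = 0 := by
  by_contra h0
  have hm := List.all_eq_true.1 nz_ok _ (nzI_mem aTab v h0 (by rw [lengths.1]; exact hv))
  rw [Bool.not_eq_true', ← Bool.not_eq_true, eqL_iff] at hm
  refine hm (List.map_id' bp ▸ List.map_congr_left fun i hi => ?_)
  have := π_prodSel aTab letters_a v ⟨i, bp_lt hi⟩
  rw [show prodSel (aTab.map wEl) v = 1 from h, map_one] at this
  simpa using this.symm

theorem good : M.Good where
  add := a_add
  inj := a_inj'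
  conj u hu v hv := by rw [act_eq hu hv]; exact conj_r u v
  lt u hu x hx := by
    have key := mu_ok
    simp only [muCheck, List.all_eq_true, List.mem_range, Bool.and_eq_true, Nat.blt_eq] at key
    exact (key u hu).2 x hx
  r_zero := prodSel_zero tL

theorem translate {k u : ℕ} (hk : k < 7) (hu : u < 128) : ∃ u' v, u' < 128 ∧ v < 2048 ∧
    wEl (tTab.getD k []) * M.r u = M.a v * M.r u' := by
  have key := trans_ok hk
  simp only [transCheck, List.all_eq_true, List.mem_range, Bool.and_eq_true, Nat.blt_eq, eqL_iff] at key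
  obtain ⟨⟨h1, h2⟩, h3⟩ := key u hu
  refine ⟨_, _, h1, h2, eq_of_base _ _ fun i hi => Fin.ext ?_⟩
  have hr := rim_ok
  simp only [rimCheck, List.all_eq_true, List.mem_range, eqL_iff] at hr
  rw [← hr u hu, ← hr _ h1, List.map_map, List.map_map] at h3
  have ht := letters_t' (getD_mem (l := tTab) (k := k) (by rw [lengths.2.1]; exact hk))
  rw [map_mul, map_mul, Equiv.Perm.mul_apply, Equiv.Perm.mul_apply]
  show ((π (wEl (tTab.getD k [])) (π (prodSel (tTab.map wEl) u) i) : Fin D.n) : ℕ) =
    ((π (prodSel (aTab.map wEl) _) (π (prodSel (tTab.map wEl) _) i) : Fin D.n) : ℕ)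
  rw [π_wEl _ ht, π_prodSel _ letters_t, π_prodSel _ letters_a, π_prodSel _ letters_t]
  exact List.map_inj_left.1 h3 i.val hi

/-- the generators -/
noncomputable def gens : Set Cfsg.Spor.Fi23 := {g | g ∈ aL ∨ g ∈ tL}

/-- the Sylow subgroup -/
noncomputable def T0 : Subgroup Cfsg.Spor.Fi23 := Subgroup.closure gens

/-- the elementary abelian subgroup -/
noncomputable def A0 : Subgroup Cfsg.Spor.Fi23 := Subgroup.closure {g | g ∈ aL}

theorem a_mem (v : ℕ) : M.a v ∈ A0 := prodSel_mem aL v fun _ h => Subgroup.subset_closure h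

theorem A0_le : A0 ≤ T0 := Subgroup.closure_mono fun _ h => Or.inl h

theorem cover {g : Cfsg.Spor.Fi23} (hg : g ∈ T0) :
    ∃ v u, v < 2048 ∧ u < 128 ∧ g = M.a v * M.r u := by
  haveI := finite
  let St : Submonoid Cfsg.Spor.Fi23 :=
    { carrier := {g | ∀ x, (∃ v u, v < 2048 ∧ u < 128 ∧ x = M.a v * M.r u) →
        ∃ v u, v < 2048 ∧ u < 128 ∧ g * x = M.a v * M.r u}
      one_mem' := fun x hx => by rwa [one_mul]
      mul_mem' := fun {g h} hg hh x hx => by rw [mul_assoc]; exact hg _ (hh x hx) }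
  have hgen : gens ⊆ St := by
    rintro g (hg | hg) x ⟨v, u, hv, hu, rfl⟩
    · obtain ⟨j, hj, rfl⟩ := List.getElem_of_mem hg
      have hj' : j < 11 := by rw [aL, List.length_map, lengths.1] at hj; exact hj
      have hp : 2 ^ j < 2048 := Nat.pow_lt_pow_right (by norm_num) hj' (a := 2) (n := 11)
      refine ⟨2 ^ j ^^^ v, u, Nat.xor_lt_two_pow (n := 11) hp hv, hu, ?_⟩
      rw [a_add, ← mul_assoc]
      congr 2
      exact (prodSel_two_pow aL j hj).symm
    · obtain ⟨w, hw, rfl⟩ := List.mem_map.1 hg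
      obtain ⟨k, hk, rfl⟩ := List.getElem_of_mem hw
      have hk' : k < 7 := lengths.2.1 ▸ hk
      obtain ⟨u', v', hu', hv', e⟩ := translate hk' hu
      rw [← List.getD_eq_getElem _ [] hk, ← mul_assoc, conj_gen hk' v, mul_assoc, e, ← mul_assoc,
        ← a_add]
      refine ⟨_, u', ?_, hu', rfl⟩
      refine Nat.xor_lt_two_pow (n := 11) (applyM_lt (k := 11) _ _ fun x hx => ?_) hv'
      have := List.all_eq_true.1 lengths.2.2.2.1 _ (getD_mem (l := mTab) (k := k) (by rw [lengths.2.2.1]; exact hk'))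
      rw [Bool.and_eq_true, List.all_eq_true] at this
      exact Nat.blt_eq.mp (this.2 x hx)
  have hm : g ∈ Submonoid.closure gens := by
    rw [← Subgroup.closure_toSubmonoid_of_finite]
    exact hg
  have := (Submonoid.closure_le.2 hgen hm) 1 ⟨0, 0, by norm_num, by norm_num, by
    rw [good.r_zero, mul_one]; exact (prodSel_zero aL).symm⟩
  rwa [mul_one] at this

theorem mem_A0 {g : Cfsg.Spor.Fi23} (hg : g ∈ A0) : ∃ v, v < 2048 ∧ g = M.a v := by
  let St : Subgroup Cfsg.Spor.Fi23 :=
    { carrier := {g | ∃ v, v < 2048 ∧ g = M.a v}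
      one_mem' := ⟨0, by norm_num, (prodSel_zero aL).symm⟩
      mul_mem' := by
        rintro g h ⟨v, hv, rfl⟩ ⟨w, hw, rfl⟩
        exact ⟨v ^^^ w, Nat.xor_lt_two_pow (n := 11) hv hw, (a_add v w).symm⟩
      inv_mem' := by
        rintro g ⟨v, hv, rfl⟩
        refine ⟨v, hv, inv_eq_of_mul_eq_one_left ?_⟩
        rw [← a_add, Nat.xor_self]
        exact prodSel_zero aL }
  have : A0 ≤ St := by
    rw [A0, Subgroup.closure_le]
    intro g hg
    obtain ⟨j, hj, rfl⟩ := List.getElem_of_mem hg
    have hj' : j < 11 := by rw [aL, List.length_map, lengths.1] at hj; exact hj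
    exact ⟨2 ^ j, Nat.pow_lt_pow_right (by norm_num) hj' (a := 2) (n := 11), (prodSel_two_pow aL j hj).symm⟩
  exact this hg

theorem card_A0 : Nat.card A0 = 2048 := by
  let e : Fin 2048 → A0 := fun v => ⟨M.a v, a_mem v⟩
  have he : Function.Bijective e := ⟨fun v w h => Fin.ext (Model.a_inj good v.2 w.2 (congrArg Subtype.val h)),
    fun g => by
      obtain ⟨v, hv, e⟩ := mem_A0 g.2
      exact ⟨⟨v, hv⟩, Subtype.ext e.symm⟩⟩
  rw [← Nat.card_congr (Equiv.ofBijective e he), Nat.card_fin]

theorem elementary_A0 : Cfsg.IsElementaryAbelian 2 A0 := by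
  refine ⟨⟨⟨fun g h => Subtype.ext ?_⟩⟩, fun g hg => ?_⟩
  · obtain ⟨v, -, e⟩ := mem_A0 g.2
    obtain ⟨w, -, e'⟩ := mem_A0 h.2
    rw [Subgroup.coe_mul, Subgroup.coe_mul, e, e', ← a_add, ← a_add, Nat.xor_comm]
  · obtain ⟨v, -, rfl⟩ := mem_A0 hg
    rw [pow_two, ← a_add, Nat.xor_self]
    exact prodSel_zero aL

theorem card_T0 : Nat.card T0 = 2 ^ 18 := by
  haveI := finite
  let e : Fin 2048 × Fin 128 → T0 := fun q => ⟨M.a q.1 * M.r q.2,
    mul_mem (A0_le (a_mem _)) (prodSel_mem tL _ fun _ h => Subgroup.subset_closure (Or.inr h))⟩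
  have he : Function.Bijective e := by
    constructor
    · rintro ⟨v, u⟩ ⟨v', u'⟩ h
      have h' : M.a v * M.r u = M.a v' * M.r u' := congrArg Subtype.val h
      have hrow : ∀ x, x < 2048 → M.act u x = M.act u' x := by
        intro x hx
        refine Model.a_inj good (Model.act_lt good u.2) (Model.act_lt good u'.2) ?_
        have e1 := Model.conj_elem good (v := v.val) u.2 hx
        have e2 := Model.conj_elem good (v := v'.val) u'.2 hx
        rw [h', e2] at e1
        exact (mul_right_cancel e1).symm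
      have hu : u = u' := by
        by_contra hne
        have key := distinct_ok
        simp only [distinctCheck, List.all_eq_true, List.mem_range, Bool.or_eq_true, Nat.beq_eq,
          Bool.not_eq_true'] at key
        rcases key u u.2 u' u'.2 with hh | hh
        · exact hne (Fin.ext hh)
        rw [← Bool.not_eq_true, eqL_iff] at hh
        refine hh ?_
        have km := mu_ok
        simp only [muCheck, List.all_eq_true, List.mem_range, Bool.and_eq_true, eqL_iff] at km
        rw [← (km u u.2).1, ← (km u' u'.2).1]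
        refine List.map_congr_left fun j hj => ?_
        have hp : 2 ^ j < 2048 :=
          Nat.pow_lt_pow_right (by norm_num) (List.mem_range.1 hj) (a := 2) (n := 11)
        rw [← act_eq u.2 hp, ← act_eq u'.2 hp]
        exact hrow _ hp
      subst hu
      exact Prod.ext (Fin.ext (Model.a_inj good v.2 v'.2 (mul_right_cancel h'))) rfl
    · intro g
      obtain ⟨v, u, hv, hu, eg⟩ := cover g.2
      exact ⟨(⟨v, hv⟩, ⟨u, hu⟩), Subtype.ext eg.symm⟩
  rw [← Nat.card_congr (Equiv.ofBijective e he), Nat.card_prod, Nat.card_fin, Nat.card_fin]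
  norm_num

theorem normal_A0 : ∀ t ∈ T0, ∀ g ∈ A0, t * g * t⁻¹ ∈ A0 := by
  intro t ht g hg
  obtain ⟨v, u, hv, hu, rfl⟩ := cover ht
  obtain ⟨x, hx, rfl⟩ := mem_A0 hg
  rw [Model.conj_elem good hu hx, mul_inv_cancel_right]
  exact a_mem _

theorem bound0 (A : Subgroup Cfsg.Spor.Fi23) (hA : A ≤ T0) (he : Cfsg.IsElementaryAbelian 2 A) :
    Nat.card A ≤ 2 ^ 11 ∧ (Nat.card A = 2 ^ 11 → A = A0) := by
  haveI := finite
  obtain ⟨hc, hp⟩ := he
  obtain ⟨h1, h2⟩ := Model.bound good oneTab twoTab one_ok two_ok A (fun g hg => cover (hA hg))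
    (fun g hg h hh => congrArg Subtype.val (hc.is_comm.comm ⟨g, hg⟩ ⟨h, hh⟩))
    (fun g hg => by rw [← pow_two]; exact hp g hg)
  refine ⟨h1, fun e => Subgroup.eq_of_le_of_card_ge (fun g hg => ?_) (by rw [card_A0, e]; norm_num)⟩
  obtain ⟨v, -, rfl⟩ := h2 e g hg
  exact a_mem v

theorem result (T : Sylow 2 Cfsg.Spor.Fi23) :
    (∀ A : Subgroup Cfsg.Spor.Fi23, A ≤ T → (A.subgroupOf T).Normal → Cfsg.IsElementaryAbelian 2 A →
        Nat.card A ≤ 2 ^ 11) ∧
    ∃! A : Subgroup Cfsg.Spor.Fi23, A ≤ T ∧ (A.subgroupOf T).Normal ∧ Cfsg.IsElementaryAbelian 2 A ∧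
        Nat.card A = 2 ^ 11 := by
  haveI := finite
  haveI : Fact (Nat.Prime 2) := ⟨Nat.prime_two⟩
  have hs : Nat.card T0 = 2 ^ (Nat.card Cfsg.Spor.Fi23).factorization 2 := by
    rw [card_T0, natCard]
    congr 1
    have e : (4089470473293004800 : ℕ) = 2 ^ 18 * 15600091832325 := by norm_num
    rw [e, Nat.factorization_mul (by norm_num) (by norm_num), Finsupp.add_apply,
      Nat.Prime.factorization_pow Nat.prime_two, Finsupp.single_eq_same,
      Nat.factorization_eq_zero_of_not_dvd (by norm_num)]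
  obtain ⟨c, hT⟩ := MulAction.exists_smul_eq Cfsg.Spor.Fi23 (Sylow.ofCard T0 hs) T
  let φ := MulAut.conj c
  have hT' : T0.map φ.toMonoidHom = (T : Subgroup Cfsg.Spor.Fi23) := by
    rw [← hT, Sylow.coe_subgroup_smul, Subgroup.pointwise_smul_def]
    rfl
  have key : ∀ A : Subgroup Cfsg.Spor.Fi23, A ≤ T → Cfsg.IsElementaryAbelian 2 A →
      Nat.card A ≤ 2 ^ 11 ∧ (Nat.card A = 2 ^ 11 → A = A0.map φ.toMonoidHom) := by
    intro A hA ⟨hc, hp⟩
    have hB : A.comap φ.toMonoidHom ≤ T0 := by
      intro x hx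
      have hy' : φ x ∈ T0.map φ.toMonoidHom := by rw [hT']; exact hA hx
      obtain ⟨y, hy, e⟩ := hy'
      rwa [← φ.injective e]
    have hcard : Nat.card (A.comap φ.toMonoidHom) = Nat.card A := by
      rw [← Subgroup.card_map_of_injective (K := A.comap φ.toMonoidHom) (f := φ.toMonoidHom) φ.injective,
        Subgroup.map_comap_eq_self_of_surjective φ.surjective]
    obtain ⟨h1, h2⟩ := bound0 (A.comap φ.toMonoidHom) hB
      ⟨⟨⟨fun g h => Subtype.ext (φ.injective (by
        have := congrArg Subtype.val (hc.is_comm.comm ⟨φ g, g.2⟩ ⟨φ h, h.2⟩)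
        rw [Subgroup.coe_mul, Subgroup.coe_mul, map_mul, map_mul]
        exact this))⟩⟩, fun g hg => φ.injective (by
        rw [map_pow, map_one]; exact hp _ hg)⟩
    rw [hcard] at h1 h2
    refine ⟨h1, fun e => ?_⟩
    rw [← h2 e, Subgroup.map_comap_eq_self_of_surjective φ.surjective]
  refine ⟨fun A hA _ he => (key A hA he).1, A0.map φ.toMonoidHom, ⟨?_, ?_, ?_, ?_⟩, ?_⟩
  · exact hT' ▸ Subgroup.map_mono A0_le
  · refine ⟨fun n hn g => ?_⟩
    obtain ⟨a, ha, ea⟩ := Subgroup.mem_subgroupOf.1 hn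
    have hg' : (g : Cfsg.Spor.Fi23) ∈ T0.map φ.toMonoidHom := by rw [hT']; exact g.2
    obtain ⟨t, ht, et⟩ := hg'
    refine Subgroup.mem_subgroupOf.2 ⟨t * a * t⁻¹, normal_A0 t ht a ha, ?_⟩
    rw [map_mul, map_mul, map_inv, ea, et]
    rfl
  · obtain ⟨hc, hp⟩ := elementary_A0
    refine ⟨⟨⟨fun g h => Subtype.ext ?_⟩⟩, fun g hg => ?_⟩
    · obtain ⟨a, ha, ea⟩ := g.2
      obtain ⟨b, hb, eb⟩ := h.2
      have := congrArg φ (congrArg Subtype.val (hc.is_comm.comm ⟨a, ha⟩ ⟨b, hb⟩))
      rw [Subgroup.coe_mul, Subgroup.coe_mul, ← ea, ← eb, ← map_mul, ← map_mul]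
      exact this
    · obtain ⟨a, ha, rfl⟩ := hg
      rw [← map_pow, hp a ha, map_one]
  · rw [Subgroup.card_map_of_injective (f := φ.toMonoidHom) φ.injective, card_A0]
    norm_num
  · rintro A ⟨hA, -, he, hc⟩
    exact (key A hA he).2 hc

end CfsgLib.Spor.Fi23Two
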